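import Mathlib

/-!
# Endomorphisms commuting with an irreducible set of operators commute
-/

set_option autoImplicit false

namespace Cfsg.Agent.ExtPrim

variable {H : Type*} [Group H] {V : Type*} [AddCommGroup V] [DistribMulAction H V]

/-- Invariance of an additive subgroup under a subgroup of the acting group. -/
def Inv (X : Subgroup H) (W : AddSubgroup V) : Prop := ∀ h ∈ X, ∀ w ∈ W, h • w ∈ W

/-- A minimal non-zero invariant additive subgroup. -/
structure IsMinInv (X : Subgroup H) (U : AddSubgroup V) : Prop where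
  inv : Inv X U
  ne : U ≠ ⊥
  min : ∀ W : AddSubgroup V, W ≤ U → Inv X W → W ≠ ⊥ → W = U

/-- The operator of an element of the group. -/
def op (h : H) : AddMonoid.End V := DistribSMul.toAddMonoidHom V h

theorem op_apply (h : H) (v : V) : op h v = h • v := rfl

theorem finite_end [Finite V] : Finite (AddMonoid.End V) :=
  Finite.of_injective (fun f : AddMonoid.End V => (f : V → V)) DFunLike.coe_injective

theorem end_comm {W : Type*} [AddCommGroup W] [Finite W] (Γ : Set (AddMonoid.End W))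
    (hirr : ∀ A : AddSubgroup W, (∀ a ∈ Γ, ∀ w ∈ A, a w ∈ A) → A = ⊥ ∨ A = ⊤)
    {f g : AddMonoid.End W} (hf : ∀ a ∈ Γ, a * f = f * a) (hg : ∀ a ∈ Γ, a * g = g * a) :
    f * g = g * f := by
  let D : Subring (AddMonoid.End W) := Subring.centralizer Γ
  have hfD : f ∈ D := Subring.mem_centralizer_iff.mpr hf
  have hgD : g ∈ D := Subring.mem_centralizer_iff.mpr hg
  by_cases hf0 : f = 0
  · simp [hf0]
  have := finite_end (V := W)
  have : Nontrivial D := ⟨⟨⟨f, hfD⟩, 0, fun h => hf0 (congrArg Subtype.val h)⟩⟩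
  have : NoZeroDivisors D := by
    refine ⟨fun {a b} hab => ?_⟩
    by_cases ha : a = 0
    · exact Or.inl ha
    right
    let A : AddSubgroup W := AddMonoidHom.ker (a : AddMonoid.End W)
    have hA : ∀ c ∈ Γ, ∀ w ∈ A, c w ∈ A := by
      intro c hc w hw
      have h1 := DFunLike.congr_fun (Subring.mem_centralizer_iff.mp a.2 c hc) w
      change c ((a : AddMonoid.End W) w) = (a : AddMonoid.End W) (c w) at h1
      rw [show (a : AddMonoid.End W) w = 0 from hw, map_zero] at h1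
      exact h1.symm
    rcases hirr A hA with h | h
    · refine Subtype.ext (DFunLike.ext _ _ fun w => ?_)
      have h1 : (b : AddMonoid.End W) w ∈ A := by
        have := DFunLike.congr_fun (congrArg Subtype.val hab) w
        exact this
      rw [h, AddSubgroup.mem_bot] at h1
      exact h1
    · exact absurd (Subtype.ext (DFunLike.ext _ _ fun w => by
        have h1 : w ∈ A := h ▸ AddSubgroup.mem_top w
        exact h1)) ha
  have : IsDomain D := NoZeroDivisors.to_isDomain D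
  have h := (Finite.isDomain_to_isField D).mul_comm ⟨f, hfD⟩ ⟨g, hgD⟩
  exact congrArg Subtype.val h

theorem restrict_comm [Finite V] {X : Subgroup H} {U : AddSubgroup V} (hU : IsMinInv X U)
    (f g : AddMonoid.End V) (hfU : ∀ u ∈ U, f u ∈ U) (hgU : ∀ u ∈ U, g u ∈ U)
    (hf : ∀ h ∈ X, ∀ u ∈ U, f (h • u) = h • f u) (hg : ∀ h ∈ X, ∀ u ∈ U, g (h • u) = h • g u) :
    ∀ u ∈ U, f (g u) = g (f u) := by
  let res : ∀ (k : AddMonoid.End V), (∀ u ∈ U, k u ∈ U) → AddMonoid.End U := fun k hk =>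
    { toFun := fun u => ⟨k u, hk u u.2⟩
      map_zero' := Subtype.ext (map_zero k)
      map_add' := fun a b => Subtype.ext (map_add k (a : V) b) }
  let Γ : Set (AddMonoid.End U) :=
    Set.range fun h : X => res (op (h : H)) fun u hu => hU.inv h h.2 u hu
  have hirr : ∀ A : AddSubgroup U, (∀ a ∈ Γ, ∀ w ∈ A, a w ∈ A) → A = ⊥ ∨ A = ⊤ := by
    intro A hA
    by_cases h0 : A = ⊥
    · exact Or.inl h0
    refine Or.inr ?_
    have h1 : A.map U.subtype = U := by
      refine hU.min _ (AddSubgroup.map_subtype_le A) ?_ ?_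
      · rintro h hh _ ⟨w, hw, rfl⟩
        exact ⟨_, hA _ ⟨⟨h, hh⟩, rfl⟩ w hw, rfl⟩
      · exact fun h => h0 ((AddSubgroup.map_eq_bot_iff_of_injective _ U.subtype_injective).mp h)
    rw [eq_top_iff]
    intro w _
    have h2 : (w : V) ∈ A.map U.subtype := h1.symm ▸ w.2
    obtain ⟨w', hw', he⟩ := h2
    rwa [← U.subtype_injective he]
  have hc : ∀ (k : AddMonoid.End V) (hk : ∀ u ∈ U, k u ∈ U),
      (∀ h ∈ X, ∀ u ∈ U, k (h • u) = h • k u) → ∀ a ∈ Γ, a * res k hk = res k hk * a := by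
    rintro k hk hk' _ ⟨h, rfl⟩
    exact DFunLike.ext _ _ fun (u : U) => Subtype.ext (hk' h h.2 (u : V) u.2).symm
  intro u hu
  exact congrArg Subtype.val
    (DFunLike.congr_fun (end_comm Γ hirr (hc f hfU hf) (hc g hgU hg)) ⟨u, hu⟩)

theorem exists_isMinInv [Finite V] {X : Subgroup H} {Z : AddSubgroup V} (hZ : Inv X Z)
    (h0 : Z ≠ ⊥) : ∃ U : AddSubgroup V, U ≤ Z ∧ IsMinInv X U := by
  have : Finite (AddSubgroup V) := Finite.of_injective _ SetLike.coe_injective
  obtain ⟨U, ⟨hUZ, hUi, hU0⟩, hmin⟩ :=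
    Set.Finite.exists_minimal (Set.toFinite {W : AddSubgroup V | W ≤ Z ∧ Inv X W ∧ W ≠ ⊥})
      ⟨Z, le_rfl, hZ, h0⟩
  exact ⟨U, hUZ, hUi, hU0, fun W hW hWi hW0 => le_antisymm hW (hmin ⟨hW.trans hUZ, hWi, hW0⟩ hW)⟩

theorem inv_map {X : Subgroup H} {W : AddSubgroup V} (hW : Inv X W) (f : AddMonoid.End V)
    (hf : ∀ h ∈ X, ∀ v, f (h • v) = h • f v) : Inv X (W.map f) := by
  rintro h hh _ ⟨w, hw, rfl⟩
  exact ⟨h • w, hW h hh w hw, hf h hh w⟩

theorem inv_sup {X : Subgroup H} {A B : AddSubgroup V} (hA : Inv X A) (hB : Inv X B) :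
    Inv X (A ⊔ B) := by
  intro h hh w hw
  obtain ⟨a, ha, b, hb, rfl⟩ := AddSubgroup.mem_sup.mp hw
  rw [smul_add]
  exact AddSubgroup.mem_sup.mpr ⟨_, hA h hh a ha, _, hB h hh b hb, rfl⟩

theorem inv_inf {X : Subgroup H} {A B : AddSubgroup V} (hA : Inv X A) (hB : Inv X B) :
    Inv X (A ⊓ B) := fun h hh w hw => ⟨hA h hh w hw.1, hB h hh w hw.2⟩

theorem isMinInv_map {X : Subgroup H} {U : AddSubgroup V} (hU : IsMinInv X U)
    (f : AddMonoid.End V) (hf : ∀ h ∈ X, ∀ v, f (h • v) = h • f v) (hne : U.map f ≠ ⊥) :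
    IsMinInv X (U.map f) := by
  refine ⟨inv_map hU.inv f hf, hne, fun W hW hWi hW0 => le_antisymm hW ?_⟩
  have hP : U ⊓ W.comap f = U := by
    refine hU.min _ inf_le_left ?_ ?_
    · intro h hh w hw
      refine ⟨hU.inv h hh w hw.1, ?_⟩
      change f (h • w) ∈ W
      rw [hf h hh w]
      exact hWi h hh _ hw.2
    · obtain ⟨w, hw, hw0⟩ := (AddSubgroup.bot_or_exists_ne_zero W).resolve_left hW0
      obtain ⟨u, hu, rfl⟩ := hW hw
      intro hb
      have hu0 : u ∈ (⊥ : AddSubgroup V) := hb ▸ ⟨hu, hw⟩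
      rw [AddSubgroup.mem_bot] at hu0
      exact hw0 (by rw [hu0]; exact map_zero f)
  rintro _ ⟨u, hu, rfl⟩
  exact (inf_eq_left.mp hP) hu

theorem card_sup_of_disjoint {A B : AddSubgroup V} (h : A ⊓ B = ⊥) :
    Nat.card ↥(A ⊔ B) = Nat.card A * Nat.card B := by
  rw [← Nat.card_prod]
  refine (Nat.card_congr (Equiv.ofBijective
    (fun p : A × B => (⟨(p.1 : V) + p.2, AddSubgroup.add_mem_sup p.1.2 p.2.2⟩ : ↥(A ⊔ B)))
    ⟨fun p q hpq => ?_, fun w => ?_⟩)).symm
  · have h1 : (p.1 : V) + p.2 = q.1 + q.2 := congrArg Subtype.val hpq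
    have h2 : (p.1 : V) - q.1 = q.2 - p.2 := by
      rw [sub_eq_sub_iff_add_eq_add, h1]; abel
    have h3 : (p.1 : V) - q.1 ∈ A ⊓ B :=
      ⟨A.sub_mem p.1.2 q.1.2, h2 ▸ B.sub_mem q.2.2 p.2.2⟩
    rw [h, AddSubgroup.mem_bot, sub_eq_zero] at h3
    exact Prod.ext (Subtype.ext h3) (Subtype.ext (by rwa [h3, add_right_inj] at h1))
  · obtain ⟨a, ha, b, hb, he⟩ := AddSubgroup.mem_sup.mp w.2
    exact ⟨(⟨a, ha⟩, ⟨b, hb⟩), Subtype.ext he⟩

end Cfsg.Agent.ExtPrim
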