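import Cfsg.Agent.ExtPrim.Tensor

/-!
# No two commuting simple factors
-/

set_option autoImplicit false

namespace Cfsg.Agent.ExtPrim

open MulAction

variable {H : Type*} [Group H] [Finite H] {V : Type*} [AddCommGroup V] [DistribMulAction H V]
  [Finite V] {M T : Subgroup H}

omit [Finite H] in
theorem halves {X : Subgroup H} {U U' : AddSubgroup V} (hU : IsMinInv X U) (hU' : IsMinInv X U')
    (hc : Nat.card U' = Nat.card U) (hi : U ⊓ U' = ⊥) (hs : U ⊔ U' = ⊤) {Z : AddSubgroup V}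
    (hZ : Inv X Z) (h0 : Z ≠ ⊥) (ht : Z ≠ ⊤) : IsMinInv X Z ∧ Nat.card Z = Nat.card U := by
  -- an invariant proper subgroup containing `U` is `U`
  have hA : ∀ A : AddSubgroup V, Inv X A → U ≤ A → A ≠ ⊤ → A = U := by
    intro A hAi hUA hAt
    refine le_antisymm (fun w hw => ?_) hUA
    have hb : A ⊓ U' = ⊥ := by
      by_contra hb
      have h1 := hU'.min _ inf_le_right (inv_inf hAi hU'.inv) hb
      exact hAt (eq_top_iff.mpr (hs ▸ sup_le hUA (h1 ▸ inf_le_left)))
    obtain ⟨a, ha, b, hb', rfl⟩ := AddSubgroup.mem_sup.mp (hs ▸ AddSubgroup.mem_top w)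
    have hbA : b ∈ A := by
      have := A.sub_mem hw (hUA ha)
      rwa [add_sub_cancel_left] at this
    have : b ∈ A ⊓ U' := ⟨hbA, hb'⟩
    rw [hb, AddSubgroup.mem_bot] at this
    rw [this, add_zero]
    exact ha
  have hV : Nat.card V = Nat.card U * Nat.card U := by
    calc Nat.card V = Nat.card ↥(⊤ : AddSubgroup V) := AddSubgroup.card_top.symm
      _ = _ := by rw [← hs, card_sup_of_disjoint hi, hc]
  obtain ⟨L, hLZ, hL⟩ := exists_isMinInv hZ h0
  by_cases hLU : L = U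
  · subst hLU
    rw [hA Z hZ hLZ ht]
    exact ⟨hU, rfl⟩
  have hLUd : L ⊓ U = ⊥ := by
    by_contra hb
    exact hLU ((hL.min _ inf_le_left (inv_inf hL.inv hU.inv) hb).symm.trans
      (hU.min _ inf_le_right (inv_inf hL.inv hU.inv) hb))
  have hLUt : L ⊔ U = ⊤ := by
    by_contra hb
    have h1 := hA _ (inv_sup hL.inv hU.inv) le_sup_right hb
    exact hL.ne (le_bot_iff.mp (hLUd ▸ le_inf le_rfl (h1 ▸ le_sup_left : L ≤ U)))
  have hLc : Nat.card L = Nat.card U := by
    have h1 := card_sup_of_disjoint hLUd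
    rw [hLUt, AddSubgroup.card_top, hV] at h1
    exact (Nat.eq_of_mul_eq_mul_right Nat.card_pos h1).symm
  have hZU : Z ⊓ U = ⊥ := by
    by_contra hb
    have h1 := hU.min _ inf_le_right (inv_inf hZ hU.inv) hb
    exact ht (eq_top_iff.mpr (hLUt ▸ sup_le hLZ (h1 ▸ inf_le_left)))
  have hZc : Nat.card Z ≤ Nat.card L := by
    have h1 := card_sup_of_disjoint hZU
    have h2 : Nat.card ↥(Z ⊔ U) ≤ Nat.card V := Nat.card_le_card_of_injective _ Subtype.val_injective
    rw [h1, hV] at h2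
    rw [hLc]
    exact Nat.le_of_mul_le_mul_right h2 Nat.card_pos
  have hEq : L = Z := SetLike.coe_injective (Set.eq_of_subset_of_ncard_le hLZ (by
    rw [← Nat.card_coe_set_eq, ← Nat.card_coe_set_eq]; exact hZc) (Set.toFinite _))
  exact ⟨hEq ▸ hL, hEq ▸ hLc⟩

namespace Sys

/-- An element of `T` preserving a minimal `rest T`-submodule fixes it pointwise. -/
theorem scalar_one (s : Sys V M T) [Nontrivial V] (hT : ∃ g, ExtPrim.cj T g ≠ T) {L : AddSubgroup V}
    (hLi : Inv (rest T) L) (hL0 : L ≠ ⊥) (hLt : L ≠ ⊤) {a : H} (ha : a ∈ T)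
    (haL : ∀ w ∈ L, a • w ∈ L) : ∀ w ∈ L, a • w = w := by
  classical
  haveI := s.normal
  obtain ⟨U, U', hU, hU', hc, hi, hs⟩ := s.exists_pair hT
  obtain ⟨hL, hLc⟩ := halves hU hU' hc hi hs hLi hL0 hLt
  -- a translate of `L` is a complement
  obtain ⟨t, ht, htL⟩ : ∃ t ∈ T, ¬ ∀ w ∈ L, t • w ∈ L := by
    by_contra! h
    exact hLt (s.M_irred (s.inv_M h hLi) hL0)
  let L2 : AddSubgroup V := L.map (op t)
  have hL2 : IsMinInv (rest T) L2 := isMinInv_map hL (op t) (s.op_comm ht) fun hb => hL0 (by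
    refine (AddSubgroup.eq_bot_iff_forall _).mpr fun u hu => ?_
    have h1 : op t u ∈ L.map (op t) := AddSubgroup.mem_map_of_mem _ hu
    rw [hb, AddSubgroup.mem_bot, op_apply, smul_eq_zero_iff_eq] at h1
    exact h1)
  have hd : L ⊓ L2 = ⊥ := by
    by_contra hb
    have h1 := hL.min _ inf_le_left (inv_inf hL.inv hL2.inv) hb
    have h2 := hL2.min _ inf_le_right (inv_inf hL.inv hL2.inv) hb
    exact htL fun w hw => (h2.symm.trans h1) ▸ AddSubgroup.mem_map_of_mem (op t) hw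
  have hsum : L ⊔ L2 = ⊤ := by
    by_contra hb
    obtain ⟨hm, -⟩ := halves hU hU' hc hi hs (inv_sup hL.inv hL2.inv)
      (fun h => hL0 (le_bot_iff.mp (h ▸ le_sup_left))) hb
    have h1 := hm.min L le_sup_left hL.inv hL0
    refine hL2.ne (le_bot_iff.mp ?_)
    rw [← hd]
    exact le_inf (h1 ▸ le_sup_right) le_rfl
  let Φ : L × L →+ V :=
    { toFun := fun p => (p.1 : V) + t • (p.2 : V)
      map_zero' := by simp
      map_add' := fun p q => by
        simp only [Prod.fst_add, Prod.snd_add, AddSubgroup.coe_add, smul_add]; abel }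
  have hΦ : Function.Bijective Φ := by
    refine ⟨(injective_iff_map_eq_zero Φ).mpr fun p hp => ?_, fun w => ?_⟩
    · have h1 : (p.1 : V) + t • (p.2 : V) = 0 := hp
      have h2 : (p.1 : V) ∈ L ⊓ L2 := by
        refine ⟨p.1.2, ?_⟩
        rw [eq_neg_of_add_eq_zero_left h1]
        exact L2.neg_mem (AddSubgroup.mem_map_of_mem (op t) p.2.2)
      rw [hd, AddSubgroup.mem_bot] at h2
      rw [h2, zero_add, smul_eq_zero_iff_eq] at h1
      exact Prod.ext (Subtype.ext h2) (Subtype.ext h1)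
    · obtain ⟨x, hx, y, ⟨z, hz, rfl⟩, rfl⟩ := AddSubgroup.mem_sup.mp
        (hsum ▸ AddSubgroup.mem_top w : w ∈ L ⊔ L2)
      exact ⟨(⟨x, hx⟩, ⟨z, hz⟩), rfl⟩
  let e : L × L ≃+ V := AddEquiv.ofBijective Φ hΦ
  let π1 : AddMonoid.End V := L.subtype.comp ((AddMonoidHom.fst L L).comp e.symm.toAddMonoidHom)
  let π2 : AddMonoid.End V := L.subtype.comp ((AddMonoidHom.snd L L).comp e.symm.toAddMonoidHom)
  have hπ : ∀ w, w = π1 w + t • π2 w := fun w => (e.apply_symm_apply w).symm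
  have hπL1 : ∀ w, π1 w ∈ L := fun w => ((e.symm w).1).2
  have hπL2 : ∀ w, π2 w ∈ L := fun w => ((e.symm w).2).2
  have huniq : ∀ {x y : V}, x ∈ L → y ∈ L → π1 (x + t • y) = x ∧ π2 (x + t • y) = y := by
    intro x y hx hy
    have h1 : e.symm (x + t • y) = (⟨x, hx⟩, ⟨y, hy⟩) := e.injective (by
      rw [e.apply_symm_apply]; rfl)
    exact ⟨congrArg (fun p : L × L => (p.1 : V)) h1, congrArg (fun p : L × L => (p.2 : V)) h1⟩
  have hπR : ∀ h ∈ rest T, ∀ w, π1 (h • w) = h • π1 w ∧ π2 (h • w) = h • π2 w := by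
    intro h hh w
    have h1 : h • w = h • π1 w + t • (h • π2 w) := by
      conv_lhs => rw [hπ w]
      rw [smul_add, ← mul_smul, s.rest_comm hh ht, mul_smul]
    rw [h1]
    exact huniq (hLi h hh _ (hπL1 w)) (hLi h hh _ (hπL2 w))
  let ψ : AddMonoid.End V := op a * π1 + op t * (op a * π2)
  have hψ : ∀ w, ψ w = a • π1 w + t • (a • π2 w) := fun _ => rfl
  have hcomp : ∀ g : AddMonoid.End V, (∀ h ∈ rest T, ∀ w, g (h • w) = h • g w) →
      ∀ l ∈ L, g (a • l) = ψ (g l) := by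
    intro g hg l hl
    rw [hψ]
    have h1 : π1 (g (a • l)) = a • π1 (g l) :=
      restrict_comm hL (π1 * g) (op a) (fun u _ => hπL1 _) haL
        (fun h hh u _ => by
          change π1 (g (h • u)) = h • π1 (g u)
          rw [hg h hh, (hπR h hh _).1]) (fun h hh u _ => s.op_comm ha h hh u) l hl
    have h2 : π2 (g (a • l)) = a • π2 (g l) :=
      restrict_comm hL (π2 * g) (op a) (fun u _ => hπL2 _) haL
        (fun h hh u _ => by
          change π2 (g (h • u)) = h • π2 (g u)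
          rw [hg h hh, (hπR h hh _).2]) (fun h hh u _ => s.op_comm ha h hh u) l hl
    rw [← h1, ← h2]
    exact hπ _
  have hψM : ∀ m ∈ M, ∀ w, m • ψ w = ψ (m • w) := by
    have hψT : ∀ c ∈ T, ∀ w, c • ψ w = ψ (c • w) := by
      intro c hc w
      have h1 := hcomp (op c) (s.op_comm hc) _ (hπL1 w)
      have h2 := hcomp (op (c * t)) (s.op_comm (T.mul_mem hc ht)) _ (hπL2 w)
      rw [op_apply, op_apply] at h1 h2
      conv_rhs => rw [hπ w, smul_add, map_add, ← mul_smul]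
      rw [← h1, ← h2, hψ, smul_add, ← mul_smul c t]
    intro m hm w
    obtain ⟨c, hc, b, hb, rfl⟩ := s.decomp hm
    rw [mul_smul, mul_smul, ← hψT c hc (b • w)]
    congr 1
    rw [hψ, hψ, (hπR b hb w).1, (hπR b hb w).2, smul_add]
    simp only [← mul_smul]
    rw [s.rest_comm hb ha, ← mul_assoc b t a, s.rest_comm hb ht, mul_assoc t b a,
      s.rest_comm hb ha, ← mul_assoc t a b]
  intro v hvL
  by_cases hv0 : v = 0
  · rw [hv0, smul_zero]
  -- the line of `v` over the centralizer of `M`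
  let D : Subring (AddMonoid.End V) := Subring.centralizer (Set.range fun m : M => op (m : H))
  have hD : ∀ δ ∈ D, ∀ m ∈ M, ∀ w, m • δ w = δ (m • w) := fun δ hδ m hm w =>
    DFunLike.congr_fun (Subring.mem_centralizer_iff.mp hδ (op m) ⟨⟨m, hm⟩, rfl⟩) w
  have hD' : ∀ δ : AddMonoid.End V, (∀ m ∈ M, ∀ w, m • δ w = δ (m • w)) → δ ∈ D := fun δ hδ =>
    Subring.mem_centralizer_iff.mpr (by
      rintro _ ⟨m, rfl⟩
      exact DFunLike.ext _ _ fun w => hδ m m.2 w)
  let W : AddSubgroup V :=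
    { carrier := {w | ∃ δ ∈ D, δ v = w}
      zero_mem' := ⟨0, D.zero_mem, rfl⟩
      add_mem' := by
        rintro x y ⟨δ, hδ, rfl⟩ ⟨ε, hε, rfl⟩
        exact ⟨δ + ε, D.add_mem hδ hε, rfl⟩
      neg_mem' := by
        rintro x ⟨δ, hδ, rfl⟩
        exact ⟨-δ, D.neg_mem hδ, rfl⟩ }
  have hvW : v ∈ W := ⟨1, D.one_mem, rfl⟩
  have hWt : W ≠ ⊤ := by
    intro hW
    refine s.nonab fun m hm n hn => ?_
    obtain ⟨α, hα, hαv⟩ : m • v ∈ W := hW ▸ AddSubgroup.mem_top _
    obtain ⟨β, hβ, hβv⟩ : n • v ∈ W := hW ▸ AddSubgroup.mem_top _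
    have hαβ : α * β = β * α := by
      refine end_comm (Set.range fun k : M => op (k : H)) (fun A hA => ?_)
        (Subring.mem_centralizer_iff.mp hα) (Subring.mem_centralizer_iff.mp hβ)
      by_cases hA0 : A = ⊥
      · exact Or.inl hA0
      · exact Or.inr (s.M_irred (fun k hk w hw => hA _ ⟨⟨k, hk⟩, rfl⟩ w hw) hA0)
    have hmn : (m * n) • v = (n * m) • v := by
      rw [mul_smul, mul_smul, ← hβv, ← hαv, hD β hβ m hm, hD α hα n hn, ← hαv, ← hβv]
      exact (DFunLike.congr_fun hαβ v).symm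
    have h1 : (n * m)⁻¹ * (m * n) = 1 := s.ctx.faithful _ fun w => by
      obtain ⟨δ, hδ, rfl⟩ : w ∈ W := hW ▸ AddSubgroup.mem_top w
      rw [mul_smul, hD δ hδ _ (M.mul_mem hm hn), hmn, ← hD δ hδ _ (M.mul_mem hn hm), inv_smul_smul]
    exact (inv_mul_eq_one.mp h1).symm
  refine s.ctx.line hv0 W hvW hWt (fun h hh w hw => ?_) (h := a) ?_
  · obtain ⟨δ, hδ, rfl⟩ := hw
    refine ⟨op h * δ * op h⁻¹, hD' _ fun m hm u => ?_, ?_⟩
    · change m • (h • δ (h⁻¹ • u)) = h • δ (h⁻¹ • m • u)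
      have hm' : h⁻¹ * m * h ∈ M := by simpa using s.normal.conj_mem m hm h⁻¹
      have h1 := hD δ hδ _ hm' (h⁻¹ • u)
      rw [← mul_smul (h⁻¹ * m * h), show h⁻¹ * m * h * h⁻¹ = h⁻¹ * m by simp,
        mul_smul h⁻¹ m u] at h1
      rw [← h1]
      simp only [← mul_smul]
      simp [mul_assoc]
    · change h • δ (h⁻¹ • v) = h • δ v
      rw [show h⁻¹ • v = v from inv_smul_eq_iff.mpr hh.symm]
  · rintro _ ⟨δ, hδ, rfl⟩
    refine ⟨δ * ψ, D.mul_mem hδ (hD' ψ hψM), ?_⟩
    change δ (ψ v) = a • δ v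
    have h1 := hcomp 1 (fun _ _ _ => rfl) v hvL
    rw [hD δ hδ a (s.minM.le ha)]
    exact congrArg δ h1.symm

/-- `T` is normal. -/
theorem eq_top (s : Sys V M T) [Nontrivial V] : ∀ g, ExtPrim.cj T g = T := by
  by_contra! hT
  haveI := s.isSimpleGroup
  haveI : Fact (Nat.Prime 2) := ⟨Nat.prime_two⟩
  obtain ⟨t0, ht0, ht0', ht0s⟩ := s.exists_inv
  let S : Sylow 2 T := default
  let P : Subgroup T := S
  let Z : AddSubgroup V := fixV (P.map T.subtype)
  have hZi : Inv (rest T) Z := inv_fixV fun y hy x hx => by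
    obtain ⟨x', -, rfl⟩ := id hx
    have hc : (y : H) * (x' : H) = x' * y := s.rest_comm hy x'.2
    have : y⁻¹ * (x' : H) * y = x' := by rw [mul_assoc, ← hc, inv_mul_cancel_left]
    change y⁻¹ * (x' : H) * y ∈ P.map T.subtype
    rw [this]
    exact hx
  have hV2 : 2 ∣ Nat.card V := by
    obtain ⟨w, hw⟩ := exists_ne (0 : V)
    have h : addOrderOf w = 2 := addOrderOf_eq_prime (by rw [two_nsmul]; exact s.two w) hw
    exact h ▸ addOrderOf_dvd_natCard w
  have hZ0 : Z ≠ ⊥ := by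
    intro hb
    obtain ⟨w, hw, hw0⟩ := (S.isPGroup'.map T.subtype).exists_fixed_point_of_prime_dvd_card_of_fixed_point
      (α := V) hV2 (a := 0) (fun x => smul_zero _)
    exact hw0 (AddSubgroup.mem_bot.mp (hb ▸ (fun x hx => hw ⟨x, hx⟩ : w ∈ Z))).symm
  have hPbot : P ≠ ⊥ := S.ne_bot_of_dvd_card (by
    have h : orderOf (⟨t0, ht0⟩ : T) = 2 := orderOf_eq_prime
      (Subtype.ext (by simp [pow_two, ht0s])) (fun h => ht0' (congrArg Subtype.val h))
    exact h ▸ orderOf_dvd_natCard _)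
  have hZt : Z ≠ ⊤ := by
    intro hb
    refine hPbot ((Subgroup.eq_bot_iff_forall _).mpr fun x hx => Subtype.ext ?_)
    exact s.ctx.faithful _ fun w => (hb ▸ AddSubgroup.mem_top w : w ∈ Z) _ ⟨x, hx, rfl⟩
  -- elements preserving `Z` are involutions
  have hsq : ∀ x : T, (∀ w ∈ Z, (x : H) • w ∈ Z) → x * x = 1 := by
    intro x hx
    have hfix := s.scalar_one hT hZi hZ0 hZt x.2 hx
    let N : AddMonoid.End V := 1 + op (x : H)
    have hN : ∀ w, N w = w + (x : H) • w := fun _ => rfl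
    have hNc : ∀ h ∈ rest T, ∀ w, N (h • w) = h • N w := fun h hh w => by
      rw [hN, hN, smul_add]; exact congrArg _ (s.op_comm x.2 h hh w)
    let Y : AddSubgroup V := (⊤ : AddSubgroup V).map N
    have hYfix : ∀ w ∈ Y, (x : H) • w = w := by
      by_cases hY0 : Y = ⊥
      · intro w hw
        rw [hY0, AddSubgroup.mem_bot] at hw
        rw [hw, smul_zero]
      refine s.scalar_one hT (inv_map (W := (⊤ : AddSubgroup V)) (fun _ _ _ _ => trivial) N hNc) hY0 ?_ x.2 ?_
      · intro hYt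
        have hsur : Function.Surjective N := fun w => by
          obtain ⟨u, -, hu⟩ : w ∈ Y := (congrArg (fun A : AddSubgroup V => w ∈ A) hYt).mpr (AddSubgroup.mem_top w)
          exact ⟨u, hu⟩
        have hinj := Finite.injective_iff_surjective.mpr hsur
        refine hZ0 ((AddSubgroup.eq_bot_iff_forall _).mpr fun w hw => hinj ?_)
        rw [hN, hfix w hw, s.two, map_zero]
      · rintro _ ⟨u, -, rfl⟩
        exact ⟨(x : H) • u, trivial, (hN _).trans (smul_add _ _ _).symm⟩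
    refine Subtype.ext (s.ctx.faithful _ fun w => ?_)
    have h1 := hYfix (N w) (AddSubgroup.mem_map_of_mem N (AddSubgroup.mem_top w))
    rw [hN, smul_add, ← mul_smul, add_comm w ((x : H) • w)] at h1
    exact add_left_cancel h1
  -- the normalizer of the Sylow subgroup preserves `Z`
  have hnZ : ∀ n ∈ Subgroup.normalizer (P : Set T), ∀ w ∈ Z, (n : H) • w ∈ Z := by
    intro n hn w hw x hx
    obtain ⟨x', hx', rfl⟩ := hx
    have h1 : n⁻¹ * x' * n ∈ P := by
      have := (Subgroup.mem_normalizer_iff.mp (Subgroup.inv_mem _ hn) x').mp hx'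
      simpa using this
    have h2 : ((n : H)⁻¹ * (x' : H) * (n : H)) • w = w := hw _ ⟨_, h1, rfl⟩
    rw [mul_smul, mul_smul, inv_smul_eq_iff] at h2
    exact h2
  have hN2 : IsPGroup 2 (Subgroup.normalizer (P : Set T)) := by
    intro x
    refine ⟨1, Subtype.ext ?_⟩
    simpa [pow_two] using hsq x (hnZ x x.2)
  have hNP : Subgroup.normalizer (P : Set T) = P := S.is_maximal' hN2 Subgroup.le_normalizer
  have hab : ∀ x ∈ P, ∀ y ∈ P, x * y = y * x := by
    have hinv : ∀ z ∈ P, z⁻¹ = z := fun z hz =>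
      inv_eq_of_mul_eq_one_left (hsq z (hnZ z (hNP.symm ▸ hz)))
    intro x hx y hy
    rw [← hinv (x * y) (P.mul_mem hx hy), mul_inv_rev, hinv x hx, hinv y hy]
  have hP : Subgroup.normalizer ((S : Subgroup T) : Set T) ≤ Subgroup.centralizer (S : Set T) := by
    intro n hn
    have hn' : n ∈ P := hNP ▸ hn
    exact Subgroup.mem_centralizer_iff.mpr fun y hy => hab y hy n hn'
  have hcomp := MonoidHom.ker_transferSylow_isComplement' S hP
  rcases (inferInstance : (MonoidHom.transferSylow S hP).ker.Normal).eq_bot_or_eq_top with hk | hk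
  · rw [hk, Subgroup.isComplement'_bot_left] at hcomp
    refine s.not_comm fun x hx y hy => ?_
    exact congrArg Subtype.val (hab ⟨x, hx⟩ (show (⟨x, hx⟩ : T) ∈ (S : Subgroup T) from
      hcomp ▸ Subgroup.mem_top _) ⟨y, hy⟩ (show (⟨y, hy⟩ : T) ∈ (S : Subgroup T) from
      hcomp ▸ Subgroup.mem_top _))
  · rw [hk, Subgroup.isComplement'_top_left] at hcomp
    exact hPbot hcomp

end Sys

end Cfsg.Agent.ExtPrim
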