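import Cfsg.Agent.ExtPrim.Line

/-!
# Irreducible linear groups which are primitive on every orbit
-/

set_option autoImplicit false

namespace Cfsg.Agent.ExtPrim

open MulAction

variable {H : Type*} [Group H] [Finite H] {V : Type*} [AddCommGroup V] [DistribMulAction H V]
  [Finite V] [Nontrivial V]

namespace Ctx

omit [Nontrivial V] in
/-- The characteristic is two: the group has odd order otherwise. -/
theorem exists_double (c : Ctx H V) : ∃ v : V, v ≠ 0 ∧ v + v = 0 := by
  by_contra! hno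
  refine c.ns (Cfsg.Agent.S0205.result (Nat.not_even_iff_odd.mp fun he => ?_))
  haveI : Fact (Nat.Prime 2) := ⟨Nat.prime_two⟩
  obtain ⟨t, ht⟩ := exists_prime_orderOf_dvd_card' (G := H) 2 (even_iff_two_dvd.mp he)
  have hts : t * t = 1 := by
    have h := pow_orderOf_eq_one t
    rw [ht, pow_two] at h
    exact h
  obtain ⟨w, hw⟩ : ∃ w : V, t • w ≠ w := by
    by_contra! h
    rw [c.faithful t h, orderOf_one] at ht
    omega
  have hv : t • w - w ≠ 0 := sub_ne_zero.mpr hw
  have htv : t • (t • w - w) = -(t • w - w) := by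
    rw [smul_sub, ← mul_smul, hts, one_smul, neg_sub]
  have h1 := c.line hv (AddSubgroup.zmultiples (t • w - w)) (AddSubgroup.mem_zmultiples _)
    (c.zmultiples_ne_top _) (fun h hh u hu => ?_) (h := t) (fun u hu => ?_)
  · rw [htv, neg_eq_iff_add_eq_zero] at h1
    exact hno _ hv h1
  · obtain ⟨n, rfl⟩ := AddSubgroup.mem_zmultiples_iff.mp hu
    rw [smul_comm h n, hh]
    exact hu
  · obtain ⟨n, rfl⟩ := AddSubgroup.mem_zmultiples_iff.mp hu
    rw [smul_comm t n, htv, smul_neg]
    exact (AddSubgroup.zmultiples _).neg_mem hu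

/-- No non-trivial abelian normal subgroup. -/
theorem no_abelian (c : Ctx H V) (two : ∀ v : V, v + v = 0) (M : Subgroup H) [hM : M.Normal]
    (hne : M ≠ ⊥) (hmin : ∀ K : Subgroup H, K.Normal → K ≤ M → K ≠ ⊥ → K = M)
    (hab : ∀ a ∈ M, ∀ b ∈ M, a * b = b * a) : False := by
  have hfree : ∀ a ∈ M, ∀ v : V, v ≠ 0 → a • v = v → a = 1 := by
    intro a ha v hv hav
    have hn : (M ⊓ stabilizer H v).Normal := by
      refine ⟨fun x hx g => ?_⟩
      obtain ⟨k, hk, y, hy, rfl⟩ := c.exists_mul M hne hv g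
      have h1 : y * x * y⁻¹ ∈ M := hM.conj_mem x hx.1 y
      refine ⟨hM.conj_mem x hx.1 _, ?_⟩
      have h2 : k * y * x * (k * y)⁻¹ = y * x * y⁻¹ := by
        have h3 := hab k hk _ h1
        calc k * y * x * (k * y)⁻¹ = (k * (y * x * y⁻¹)) * k⁻¹ := by simp [mul_assoc]
          _ = (y * x * y⁻¹ * k) * k⁻¹ := by rw [h3]
          _ = y * x * y⁻¹ := by rw [mul_inv_cancel_right]
      rw [h2]
      exact (stabilizer H v).mul_mem ((stabilizer H v).mul_mem hy hx.2)
        ((stabilizer H v).inv_mem hy)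
    have h := c.normal_fix (M ⊓ stabilizer H v) hv (fun k hk => hk.2)
    have : a ∈ M ⊓ stabilizer H v := ⟨ha, hav⟩
    rwa [h, Subgroup.mem_bot] at this
  haveI : Nontrivial M := M.nontrivial_iff_ne_bot.mpr hne
  obtain ⟨r, hr, hrM⟩ := Nat.exists_prime_and_dvd (Finite.one_lt_card (α := M)).ne'
  haveI : Fact r.Prime := ⟨hr⟩
  have hexp : ∀ a ∈ M, a ^ r = 1 := by
    let K : Subgroup H :=
      { carrier := {a | a ∈ M ∧ a ^ r = 1}
        one_mem' := ⟨M.one_mem, one_pow r⟩
        mul_mem' := by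
          rintro a b ⟨ha, ha'⟩ ⟨hb, hb'⟩
          exact ⟨M.mul_mem ha hb, by
            rw [Commute.mul_pow (hab a ha b hb : Commute a b), ha', hb', one_mul]⟩
        inv_mem' := by
          rintro a ⟨ha, ha'⟩
          exact ⟨M.inv_mem ha, by rw [inv_pow, ha', inv_one]⟩ }
    have hK : K = M := by
      refine hmin K ⟨fun x hx g => ⟨hM.conj_mem x hx.1 g, by rw [conj_pow, hx.2]; simp⟩⟩
        (fun x hx => hx.1) fun hb => ?_
      obtain ⟨y, hy⟩ := exists_prime_orderOf_dvd_card' (G := M) r hrM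
      have h1 : (y : H) ∈ K := ⟨y.2, by
        rw [← hy]; exact congrArg Subtype.val (pow_orderOf_eq_one y)⟩
      rw [hb, Subgroup.mem_bot] at h1
      rw [show y = 1 from Subtype.ext h1, orderOf_one] at hy
      exact hr.ne_one hy.symm
    exact fun a ha => (hK.symm ▸ ha : a ∈ K).2
  obtain ⟨a, ha, ha1⟩ := (Subgroup.bot_or_exists_ne_one M).resolve_left hne
  have hr2 : r ≠ 2 := by
    rintro rfl
    obtain ⟨v, hv, hav⟩ := exists_involution_fixed two (t := a) (by rw [← pow_two]; exact hexp a ha)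
    exact ha1 (hfree a ha v hv hav)
  have horb : ∀ x ∈ M, x ≠ 1 → ∀ w : V, ∑ i ∈ Finset.range r, x ^ i • w = 0 := by
    intro x hx hx1 w
    by_contra hne'
    refine hx1 (hfree x hx _ hne' ?_)
    rw [Finset.smul_sum]
    have h1 := Finset.sum_range_succ' (fun i => x ^ i • w) r
    rw [Finset.sum_range_succ] at h1
    simp only [hexp x hx, pow_zero, one_smul] at h1
    simp only [← mul_smul, ← pow_succ']
    exact (add_right_cancel h1).symm
  have hcyc : ∀ b ∈ M, b ∈ Subgroup.zpowers a := by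
    intro b hb
    by_contra hnot
    obtain ⟨v, hv⟩ := exists_ne (0 : V)
    have hne1 : ∀ j : ℕ, a ^ j * b ≠ 1 := fun j h => hnot (by
      rw [← inv_eq_of_mul_eq_one_right h]
      exact (Subgroup.zpowers a).inv_mem (Subgroup.npow_mem_zpowers a j))
    have hdbl : ∑ j ∈ Finset.range r, ∑ i ∈ Finset.range r, (a ^ j * b) ^ i • v = 0 :=
      Finset.sum_eq_zero fun j _ => horb _ (M.mul_mem (M.pow_mem ha j) hb) (hne1 j) v
    rw [Finset.sum_comm, Finset.sum_eq_single 0] at hdbl
    · simp only [pow_zero, one_smul, Finset.sum_const, Finset.card_range] at hdbl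
      obtain ⟨k, hk⟩ := hr.odd_of_ne_two hr2
      rw [hk, add_nsmul, one_nsmul, mul_comm, mul_nsmul, two_nsmul] at hdbl
      exact hv (by simpa [← add_nsmul, ← nsmul_add, two] using hdbl)
    · intro i hi hi0
      have hai : a ^ i ≠ 1 := by
        rw [Finset.mem_range] at hi
        intro h
        have hd := orderOf_dvd_of_pow_eq_one h
        rw [orderOf_eq_prime (hexp a ha) ha1] at hd
        exact hi0 (Nat.eq_zero_of_dvd_of_lt hd hi)
      refine (Finset.sum_congr rfl fun j _ => ?_).trans (horb _ (M.pow_mem ha i) hai (b ^ i • v))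
      rw [← mul_smul, Commute.mul_pow (hab _ (M.pow_mem ha j) b hb : Commute (a ^ j) b),
        ← pow_mul, ← pow_mul, mul_comm j i]
    · intro h
      exact absurd (Finset.mem_range.mpr hr.pos) h
  obtain ⟨v, hv⟩ := exists_ne (0 : V)
  have hC : stabilizer H v ⊓ Subgroup.centralizer ({a} : Set H) = ⊥ := by
    haveI : (stabilizer H v ⊓ Subgroup.centralizer ({a} : Set H)).Normal := by
      refine ⟨fun x hx g => ?_⟩
      obtain ⟨k, hk, y, hy, rfl⟩ := c.exists_mul M hne hv g
      have hkx : ∀ z, Commute z a → Commute z k := by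
        intro z hz
        obtain ⟨n, rfl⟩ := Subgroup.mem_zpowers_iff.mp (hcyc k hk)
        exact hz.zpow_right n
      have hxa : Commute x a := Subgroup.mem_centralizer_singleton_iff.mp hx.2
      have hy' : Commute (y * x * y⁻¹) a := by
        have h1 : y⁻¹ * a * y ∈ M := by simpa using hM.conj_mem a ha y⁻¹
        obtain ⟨n, hn⟩ := Subgroup.mem_zpowers_iff.mp (hcyc _ h1)
        have h2 : Commute x (y⁻¹ * a * y) := hn ▸ hxa.zpow_right n
        have h3 : y * (x * (y⁻¹ * a * y)) * y⁻¹ = y * ((y⁻¹ * a * y) * x) * y⁻¹ := by rw [h2.eq]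
        simpa [Commute, SemiconjBy, mul_assoc] using h3
      have h2 : k * y * x * (k * y)⁻¹ = y * x * y⁻¹ := by
        calc k * y * x * (k * y)⁻¹ = (k * (y * x * y⁻¹)) * k⁻¹ := by simp [mul_assoc]
          _ = (y * x * y⁻¹ * k) * k⁻¹ := by rw [(hkx _ hy').eq]
          _ = y * x * y⁻¹ := by rw [mul_inv_cancel_right]
      rw [h2]
      exact ⟨(stabilizer H v).mul_mem ((stabilizer H v).mul_mem hy hx.1)
        ((stabilizer H v).inv_mem hy), Subgroup.mem_centralizer_singleton_iff.mpr hy'⟩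
    exact c.normal_fix _ hv (fun k hk => hk.1)
  have hst : ∀ x ∈ stabilizer H v, ∀ y ∈ stabilizer H v, x * y = y * x := by
    intro x hx y hy
    have hconj : ∀ z : H, ∃ n : ℤ, z * a * z⁻¹ = a ^ n := fun z => by
      obtain ⟨n, hn⟩ := Subgroup.mem_zpowers_iff.mp (hcyc _ (hM.conj_mem a ha z))
      exact ⟨n, hn.symm⟩
    obtain ⟨i, hi⟩ := hconj x
    obtain ⟨j, hj⟩ := hconj y
    have h1 : (x * y) * a * (x * y)⁻¹ = (y * x) * a * (y * x)⁻¹ := by
      calc (x * y) * a * (x * y)⁻¹ = x * (y * a * y⁻¹) * x⁻¹ := by simp [mul_assoc]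
        _ = (x * a * x⁻¹) ^ j := by rw [hj, conj_zpow]
        _ = (y * a * y⁻¹) ^ i := by rw [hi, hj, ← zpow_mul, ← zpow_mul, mul_comm]
        _ = y * (x * a * x⁻¹) * y⁻¹ := by rw [hi, conj_zpow]
        _ = (y * x) * a * (y * x)⁻¹ := by simp [mul_assoc]
    have h2 : (y * x)⁻¹ * (x * y) ∈ stabilizer H v ⊓ Subgroup.centralizer ({a} : Set H) := by
      refine ⟨(stabilizer H v).mul_mem ((stabilizer H v).inv_mem ((stabilizer H v).mul_mem hy hx))
        ((stabilizer H v).mul_mem hx hy), Subgroup.mem_centralizer_singleton_iff.mpr ?_⟩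
      calc (y * x)⁻¹ * (x * y) * a = (y * x)⁻¹ * ((x * y) * a * (x * y)⁻¹) * (x * y) := by
            simp [mul_assoc]
        _ = a * ((y * x)⁻¹ * (x * y)) := by rw [h1]; simp [mul_assoc]
    rw [hC, Subgroup.mem_bot] at h2
    exact (inv_mul_eq_one.mp h2).symm
  refine c.ns ?_
  have h1 : Group.IsSolvable M := Group.isSolvable_of_comm fun p q => Subtype.ext (hab p p.2 q q.2)
  have h2 : Group.IsSolvable (H ⧸ M) := Group.isSolvable_of_comm fun p q => by
    obtain ⟨g, rfl⟩ := QuotientGroup.mk'_surjective M p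
    obtain ⟨g', rfl⟩ := QuotientGroup.mk'_surjective M q
    obtain ⟨k, hk, x, hx, rfl⟩ := c.exists_mul M hne hv g
    obtain ⟨k', hk', y, hy, rfl⟩ := c.exists_mul M hne hv g'
    have e1 : QuotientGroup.mk' M k = 1 := (QuotientGroup.eq_one_iff k).mpr hk
    have e2 : QuotientGroup.mk' M k' = 1 := (QuotientGroup.eq_one_iff k').mpr hk'
    simp only [map_mul, e1, e2, one_mul]
    rw [← map_mul, ← map_mul, hst x hx y hy]
  exact Group.isSolvable_of_ker_le_range M.subtype (QuotientGroup.mk' M) (by simp)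

omit [Nontrivial V] in
theorem almost_simple_aux (c : Ctx H V) [Nontrivial V] (two : ∀ v : V, v + v = 0) {M T : Subgroup H}
    (s : Sys V M T) : ∃ T : Subgroup H, T.Normal ∧ IsSimpleGroup T ∧ ¬ IsMulCommutative T ∧
      Subgroup.centralizer (T : Set H) = ⊥ := by
  have hall := s.eq_top
  have hn : T.Normal := ⟨fun x hx g => by
    have h : g * x * g⁻¹ ∈ ExtPrim.cj T g := by simpa [mem_cj, mul_assoc] using hx
    rwa [hall g] at h⟩
  refine ⟨T, hn, s.isSimpleGroup, fun h => s.not_comm fun a ha b hb =>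
    congrArg Subtype.val (h.is_comm.comm (⟨a, ha⟩ : T) ⟨b, hb⟩), ?_⟩
  by_contra hne
  obtain ⟨t, ht, ht1, hts⟩ := s.exists_inv
  obtain ⟨v, hv, htv⟩ := exists_involution_fixed two hts
  haveI : (Subgroup.centralizer (T : Set H)).Normal := Subgroup.normal_centralizer
  -- `t` fixes the orbit of `v`
  have horb : ∀ g : H, t • (g • v) = g • v := by
    intro g
    obtain ⟨k, hk, x, hx, rfl⟩ := c.exists_mul (Subgroup.centralizer (T : Set H)) hne hv g
    rw [mul_smul, hx, ← mul_smul, Subgroup.mem_centralizer_iff.mp hk t ht, mul_smul, htv]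
  let W : AddSubgroup V := AddSubgroup.closure (Set.range fun g : H => g • v)
  have hW : W = ⊤ := by
    refine (c.irred W ?_).resolve_left fun hb => hv ?_
    · intro h _ w hw
      induction hw using AddSubgroup.closure_induction with
      | mem x hx =>
        obtain ⟨g, rfl⟩ := hx
        exact AddSubgroup.subset_closure ⟨h * g, mul_smul h g v⟩
      | zero => rw [smul_zero]; exact W.zero_mem
      | add x y _ _ hx hy => rw [smul_add]; exact W.add_mem hx hy
      | neg x _ hx => rw [smul_neg]; exact W.neg_mem hx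
    · exact AddSubgroup.mem_bot.mp (hb ▸ AddSubgroup.subset_closure ⟨1, one_smul H v⟩)
  refine ht1 (c.faithful t fun w => ?_)
  have hw : w ∈ W := hW ▸ AddSubgroup.mem_top w
  induction hw using AddSubgroup.closure_induction with
  | mem x hx => obtain ⟨g, rfl⟩ := hx; exact horb g
  | zero => rw [smul_zero]
  | add x y _ _ hx hy => rw [smul_add, hx, hy]
  | neg x _ hx => rw [smul_neg, hx]

/-- An irreducible linear group primitive on every orbit, not solvable, is almost simple. -/
theorem almost_simple (c : Ctx H V) (two : ∀ v : V, v + v = 0) :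
    ∃ T : Subgroup H, T.Normal ∧ IsSimpleGroup T ∧ ¬ IsMulCommutative T ∧
      Subgroup.centralizer (T : Set H) = ⊥ := by
  haveI : Nontrivial H := by
    by_contra h
    rw [not_nontrivial_iff_subsingleton] at h
    exact c.ns (Group.isSolvable_of_comm fun a b => Subsingleton.elim _ _)
  obtain ⟨M, ⟨hMn, hM0⟩, hmin⟩ :=
    Set.Finite.exists_minimal (Set.toFinite {L : Subgroup H | L.Normal ∧ L ≠ ⊥})
      ⟨⊤, inferInstance, top_ne_bot⟩
  haveI := hMn
  have hminN : ∀ K : Subgroup H, K.Normal → K ≤ M → K ≠ ⊥ → K = M := fun K hK hle h0 =>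
    le_antisymm hle (hmin ⟨hK, h0⟩ hle)
  by_cases hab : ∀ a ∈ M, ∀ b ∈ M, a * b = b * a
  · exact (c.no_abelian two M hM0 hminN hab).elim
  obtain ⟨T, ⟨hTle, hT0, hTn⟩, hTmin⟩ := Set.Finite.exists_minimal
    (Set.toFinite {L : Subgroup H | L ≤ M ∧ L ≠ ⊥ ∧ ∀ m ∈ M, ∀ t ∈ L, m * t * m⁻¹ ∈ L})
    ⟨M, le_rfl, hM0, fun m _ t ht => hMn.conj_mem t ht m⟩
  refine c.almost_simple_aux two (M := M) (T := T)
    ⟨c, two, hMn, hminN, hab, hTle, hT0, hTn, fun K hK hKn => ?_⟩
  by_cases hK0 : K = ⊥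
  · exact Or.inl hK0
  · exact Or.inr (le_antisymm hK (hTmin ⟨hK.trans hTle, hK0, hKn⟩ hK))

end Ctx

end Cfsg.Agent.ExtPrim
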