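import Cfsg.Agent.ExtPrim.Endo

/-!
# Irreducible linear groups which are primitive on every orbit: structure of minimal normal subgroups
-/

set_option autoImplicit false

namespace Cfsg.Agent.ExtPrim

open MulAction

variable {H : Type*} [Group H] {V : Type*} [AddCommGroup V] [DistribMulAction H V]

/-- An irreducible linear group of non-solvable type all of whose vector stabilizers are maximal. -/
structure Ctx (H : Type*) [Group H] (V : Type*) [AddCommGroup V] [DistribMulAction H V] : Prop where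
  faithful : ∀ h : H, (∀ v : V, h • v = v) → h = 1
  irred : ∀ W : AddSubgroup V, Inv (⊤ : Subgroup H) W → W = ⊥ ∨ W = ⊤
  hmax : ∀ v : V, v ≠ 0 → ∀ K : Subgroup H, stabilizer H v ≤ K → K = stabilizer H v ∨ K = ⊤
  ns : ¬ Group.IsSolvable H

/-- The stabilizer of an additive subgroup (finite setting). -/
def setStab [Finite V] (W : AddSubgroup V) : Subgroup H where
  carrier := {h | ∀ w, h • w ∈ W ↔ w ∈ W}
  one_mem' w := by simp
  mul_mem' {a b} ha hb w := by rw [mul_smul, ha, hb]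
  inv_mem' {a} ha w := by rw [← ha, smul_inv_smul]

theorem mem_setStab [Finite V] {W : AddSubgroup V} {h : H} (hh : ∀ w ∈ W, h • w ∈ W) :
    h ∈ setStab W := by
  let f : W → W := fun w => ⟨h • (w : V), hh w w.2⟩
  have hf : Function.Surjective f := Finite.surjective_of_injective fun a b hab =>
    Subtype.ext (smul_left_cancel h (congrArg Subtype.val hab))
  refine fun w => ⟨fun hw => ?_, hh w⟩
  obtain ⟨u, hu⟩ := hf ⟨_, hw⟩
  rw [← smul_left_cancel h (congrArg Subtype.val hu)]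
  exact u.2

/-- The common fixed points of a subgroup. -/
def fixV (X : Subgroup H) : AddSubgroup V where
  carrier := {v | ∀ h ∈ X, h • v = v}
  zero_mem' h _ := smul_zero h
  add_mem' {a b} ha hb h hh := by rw [smul_add, ha h hh, hb h hh]
  neg_mem' {a} ha h hh := by rw [smul_neg, ha h hh]

theorem inv_fixV {X Y : Subgroup H} (h : ∀ y ∈ Y, ∀ x ∈ X, y⁻¹ * x * y ∈ X) :
    Inv (V := V) Y (fixV X) := by
  intro y hy v hv x hx
  have h1 := hv _ (h y hy x hx)
  rw [mul_smul, mul_smul, inv_smul_eq_iff] at h1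
  exact h1

namespace Ctx

variable [Finite H] [Finite V]

theorem zmultiples_ne_top (c : Ctx H V) (v : V) : AddSubgroup.zmultiples v ≠ ⊤ := by
  intro h
  refine c.ns (Group.isSolvable_of_comm fun a b => ?_)
  have hv : ∀ w : V, ∃ n : ℤ, n • v = w := fun w =>
    AddSubgroup.mem_zmultiples_iff.mp (h ▸ AddSubgroup.mem_top w)
  have hcomm : ∀ w : V, (a * b) • w = (b * a) • w := by
    intro w
    obtain ⟨i, hi⟩ := hv (a • v)
    obtain ⟨j, hj⟩ := hv (b • v)
    obtain ⟨k, rfl⟩ := hv w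
    rw [mul_smul, mul_smul, smul_comm b k v, smul_comm a k v, ← hj, ← hi, smul_comm a k (j • v),
      smul_comm a j v, smul_comm b k (i • v), smul_comm b i v, ← hi, ← hj]
    simp only [← mul_smul]
    congr 1
    ring
  have h1 : (b * a)⁻¹ * (a * b) = 1 :=
    c.faithful _ fun w => by rw [mul_smul, hcomm, inv_smul_smul]
  exact (inv_mul_eq_one.mp h1).symm

theorem stabilizer_ne_top (c : Ctx H V) {v : V} (hv : v ≠ 0) : stabilizer H v ≠ ⊤ := by
  intro h
  refine c.zmultiples_ne_top v ((c.irred _ ?_).resolve_left fun hb => hv ?_)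
  · intro g _ w hw
    obtain ⟨n, rfl⟩ := AddSubgroup.mem_zmultiples_iff.mp hw
    have hg : g • v = v := (h ▸ Subgroup.mem_top g : g ∈ stabilizer H v)
    rw [smul_comm g n v, hg]
    exact hw
  · exact (AddSubgroup.mem_bot).mp (hb ▸ AddSubgroup.mem_zmultiples v)

theorem normal_fix (c : Ctx H V) (K : Subgroup H) [hK : K.Normal] {v : V} (hv : v ≠ 0)
    (hfix : ∀ k ∈ K, k • v = v) : K = ⊥ := by
  have h := (c.irred (fixV K) (inv_fixV fun y _ x hx => by
    simpa using hK.conj_mem x hx y⁻¹)).resolve_left fun hb => hv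
      ((AddSubgroup.mem_bot).mp (hb ▸ (hfix : v ∈ fixV K)))
  rw [Subgroup.eq_bot_iff_forall]
  exact fun k hk => c.faithful k fun w => (h ▸ AddSubgroup.mem_top w : w ∈ fixV K) k hk

/-- A proper subgroup of `V` through `v` kept by the stabilizer of `v` is only kept by it. -/
theorem line (c : Ctx H V) {v : V} (hv : v ≠ 0) (W : AddSubgroup V) (hvW : v ∈ W) (hW : W ≠ ⊤)
    (hst : ∀ h : H, h • v = v → ∀ w ∈ W, h • w ∈ W) {h : H} (hh : ∀ w ∈ W, h • w ∈ W) :
    h • v = v := by
  rcases c.hmax v hv (setStab W) (fun g hg => mem_setStab (hst g hg)) with e | e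
  · exact (e ▸ mem_setStab hh : h ∈ stabilizer H v)
  · refine absurd ((c.irred W ?_).resolve_left fun hb => hv ((AddSubgroup.mem_bot).mp (hb ▸ hvW))) hW
    intro g _ w hw
    exact ((e ▸ Subgroup.mem_top g : g ∈ setStab W) w).mpr hw

theorem exists_mul (c : Ctx H V) (K : Subgroup H) [K.Normal] (hK : K ≠ ⊥) {v : V} (hv : v ≠ 0)
    (g : H) : ∃ k ∈ K, ∃ s : H, s • v = v ∧ g = k * s := by
  rcases c.hmax v hv (K ⊔ stabilizer H v) le_sup_right with e | e
  · exact absurd (c.normal_fix K hv fun k hk =>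
      (e ▸ Subgroup.mem_sup_left hk : k ∈ stabilizer H v)) hK
  · obtain ⟨k, hk, s, hs, he⟩ := Subgroup.mem_sup_of_normal_left.mp (e ▸ Subgroup.mem_top g)
    exact ⟨k, hk, s, hs, he.symm⟩

theorem exists_involution_fixed (two : ∀ v : V, v + v = 0) [Nontrivial V] {t : H}
    (ht : t * t = 1) : ∃ v : V, v ≠ 0 ∧ t • v = v := by
  obtain ⟨w, hw⟩ := exists_ne (0 : V)
  by_cases h : t • w = w
  · exact ⟨w, hw, h⟩
  refine ⟨w + t • w, fun h0 => h ?_, ?_⟩
  · calc t • w = (w + w) + t • w := by rw [two w, zero_add]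
      _ = w + (w + t • w) := by abel
      _ = w := by rw [h0, add_zero]
  · rw [smul_add, ← mul_smul, ht, one_smul, add_comm]

end Ctx

/-- The conjugate of a subgroup. -/
def cj (T : Subgroup H) (g : H) : Subgroup H := T.comap (MulAut.conj g⁻¹).toMonoidHom

theorem mem_cj {T : Subgroup H} {g x : H} : x ∈ cj T g ↔ g⁻¹ * x * g ∈ T := by
  simp [cj]

theorem cj_one (T : Subgroup H) : cj T 1 = T := by ext x; simp [mem_cj]

theorem cj_cj (T : Subgroup H) (a b : H) : cj (cj T a) b = cj T (b * a) := by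
  ext x; simp [mem_cj, mul_assoc]

/-- A minimal subgroup of `M` normalized by `M`. -/
structure MinM (M T : Subgroup H) : Prop where
  le : T ≤ M
  ne : T ≠ ⊥
  norm : ∀ m ∈ M, ∀ t ∈ T, m * t * m⁻¹ ∈ T
  min : ∀ K : Subgroup H, K ≤ T → (∀ m ∈ M, ∀ k ∈ K, m * k * m⁻¹ ∈ K) → K = ⊥ ∨ K = T

/-- The subgroup generated by the other conjugates. -/
def rest (T : Subgroup H) : Subgroup H := sSup {S | (∃ g, S = cj T g) ∧ S ≠ T}

/-- A non-abelian minimal normal subgroup together with a minimal normal subgroup of it. -/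
structure Sys (V : Type*) [AddCommGroup V] [DistribMulAction H V] (M T : Subgroup H) : Prop where
  ctx : Ctx H V
  two : ∀ v : V, v + v = 0
  normal : M.Normal
  minN : ∀ K : Subgroup H, K.Normal → K ≤ M → K ≠ ⊥ → K = M
  nonab : ¬ ∀ a ∈ M, ∀ b ∈ M, a * b = b * a
  minM : MinM M T

namespace Sys

variable {M T : Subgroup H}

theorem cj' (s : Sys V M T) (g : H) : Sys V M (cj T g) := by
  refine ⟨s.ctx, s.two, s.normal, s.minN, s.nonab, ⟨?_, ?_, ?_, ?_⟩⟩
  · intro x hx
    have h := s.normal.conj_mem _ (s.minM.le (mem_cj.mp hx)) g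
    simpa [mul_assoc] using h
  · intro h
    refine s.minM.ne (eq_bot_iff.mpr fun x hx => ?_)
    have h1 : g * x * g⁻¹ ∈ cj T g := by simpa [mem_cj, mul_assoc] using hx
    rw [h, Subgroup.mem_bot, conj_eq_one_iff] at h1
    exact Subgroup.mem_bot.mpr h1
  · intro m hm x hx
    have h1 := s.minM.norm _ (by simpa using s.normal.conj_mem m hm g⁻¹) _ (mem_cj.mp hx)
    simpa [mem_cj, mul_assoc] using h1
  · intro K hK hKn
    have h := s.minM.min (cj K g⁻¹) (fun x hx => ?_) (fun m hm k hk => ?_)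
    · rcases h with h | h
      · refine Or.inl ?_
        have h1 := congrArg (fun S => ExtPrim.cj S g) h
        simp only [cj_cj, mul_inv_cancel, cj_one] at h1
        rw [h1]
        ext x; simp [mem_cj, conj_eq_one_iff]
        constructor
        · intro hx; simpa [mul_eq_one_iff_eq_inv, mul_assoc] using congrArg (fun y => g * y * g⁻¹) hx
        · rintro rfl; simp
      · refine Or.inr ?_
        have h1 := congrArg (fun S => ExtPrim.cj S g) h
        simpa only [cj_cj, mul_inv_cancel, cj_one] using h1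
    · have h1 := mem_cj.mp (hK (mem_cj.mp hx))
      simpa [mul_assoc] using h1
    · rw [mem_cj] at hk ⊢
      have h1 := hKn _ (s.normal.conj_mem m hm g) _ hk
      simpa [mul_assoc] using h1

theorem disj_or_eq (s : Sys V M T) (g : H) (hne : ExtPrim.cj T g ≠ T) {x y : H}
    (hx : x ∈ ExtPrim.cj T g) (hy : y ∈ T) : x * y = y * x := by
  have hS := (s.cj' g).minM
  have hn : ∀ m ∈ M, ∀ k ∈ ExtPrim.cj T g ⊓ T, m * k * m⁻¹ ∈ ExtPrim.cj T g ⊓ T :=
    fun m hm k hk => ⟨hS.norm m hm k hk.1, s.minM.norm m hm k hk.2⟩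
  have hbot : ExtPrim.cj T g ⊓ T = ⊥ := by
    refine (hS.min _ inf_le_left hn).resolve_right fun h1 => hne ?_
    rcases s.minM.min _ inf_le_right hn with h2 | h2
    · exact absurd (h1.symm.trans h2) hS.ne
    · exact h1.symm.trans h2
  have h1 : x * y * x⁻¹ * y⁻¹ ∈ ExtPrim.cj T g ⊓ T := by
    refine ⟨?_, T.mul_mem (s.minM.norm x (hS.le hx) y hy) (T.inv_mem hy)⟩
    have := (ExtPrim.cj T g).mul_mem hx (hS.norm y (s.minM.le hy) _ ((ExtPrim.cj T g).inv_mem hx))
    simpa [mul_assoc] using this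
  rw [hbot, Subgroup.mem_bot, mul_inv_eq_one, mul_inv_eq_iff_eq_mul] at h1
  exact h1

theorem rest_le (s : Sys V M T) : rest T ≤ M :=
  sSup_le fun _ ⟨⟨g, hg⟩, _⟩ => hg ▸ (s.cj' g).minM.le

theorem rest_comm (s : Sys V M T) {x y : H} (hx : x ∈ rest T) (hy : y ∈ T) : x * y = y * x := by
  have h : rest T ≤ Subgroup.centralizer (T : Set H) := sSup_le fun S ⟨⟨g, hg⟩, hne⟩ z hz => by
    subst hg
    exact Subgroup.mem_centralizer_iff.mpr fun w hw => (s.disj_or_eq g hne hz hw).symm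
  exact (Subgroup.mem_centralizer_iff.mp (h hx) y hy).symm

theorem iSup_cj (s : Sys V M T) : (⨆ k : H, ExtPrim.cj T k) = M := by
  have hXn : (⨆ k : H, ExtPrim.cj T k).Normal := by
    refine ⟨fun x hx a => ?_⟩
    have : (⨆ k : H, ExtPrim.cj T k) ≤
        (⨆ k : H, ExtPrim.cj T k).comap (MulAut.conj a).toMonoidHom := iSup_le fun k z hz =>
      Subgroup.mem_iSup_of_mem (a * k) (by simpa [mem_cj, mul_assoc] using mem_cj.mp hz)
    exact this hx
  refine s.minN _ hXn (iSup_le fun k => (s.cj' k).minM.le) fun hb => s.minM.ne ?_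
  exact le_bot_iff.mp (hb ▸ ((cj_one T).symm.le.trans (le_iSup (fun k => ExtPrim.cj T k) 1) :
    T ≤ ⨆ k : H, ExtPrim.cj T k))

theorem not_comm (s : Sys V M T) : ¬ ∀ a ∈ T, ∀ b ∈ T, a * b = b * a := by
  intro hab
  have hpair : ∀ g k x y, x ∈ ExtPrim.cj T k → y ∈ ExtPrim.cj T g → x * y = y * x := by
    intro g k x y hx hy
    by_cases he : ExtPrim.cj T k = ExtPrim.cj T g
    · have h1 := hab _ (mem_cj.mp (he ▸ hx : x ∈ ExtPrim.cj T g)) _ (mem_cj.mp hy)
      have h2 : g⁻¹ * (x * y) * g = g⁻¹ * (y * x) * g := by simpa [mul_assoc] using h1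
      exact mul_left_cancel (mul_right_cancel h2)
    · exact (s.cj' g).disj_or_eq (k * g⁻¹) (by simpa [cj_cj, mul_assoc] using he)
        (x := x) (y := y) (by simpa [cj_cj, mul_assoc] using hx) hy
  have h : ∀ g, M ≤ Subgroup.centralizer (ExtPrim.cj T g : Set H) := fun g =>
    s.iSup_cj.ge.trans (iSup_le fun k x hx =>
      Subgroup.mem_centralizer_iff.mpr fun y hy => (hpair g k x y hx hy).symm)
  refine s.nonab fun a ha b hb => ?_
  have h2 : M ≤ Subgroup.centralizer ({b} : Set H) := s.iSup_cj.ge.trans (iSup_le fun k x hx =>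
    Subgroup.mem_centralizer_singleton_iff.mpr
      (Subgroup.mem_centralizer_iff.mp (h k hb) x hx))
  exact Subgroup.mem_centralizer_singleton_iff.mp (h2 ha)

theorem rest_norm (s : Sys V M T) : ∀ m ∈ M, ∀ x ∈ rest T, m * x * m⁻¹ ∈ rest T := by
  intro m hm x hx
  have h : rest T ≤ (rest T).comap (MulAut.conj m).toMonoidHom := sSup_le fun S ⟨⟨g, hg⟩, hne⟩ z hz => by
    subst hg
    exact (le_sSup ⟨⟨g, rfl⟩, hne⟩ : ExtPrim.cj T g ≤ rest T) ((s.cj' g).minM.norm m hm z hz)
  exact h hx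

theorem decomp (s : Sys V M T) {m : H} (hm : m ∈ M) : ∃ a ∈ T, ∃ b ∈ rest T, m = a * b := by
  let P : Subgroup H :=
    { carrier := {x | ∃ a ∈ T, ∃ b ∈ rest T, x = a * b}
      one_mem' := ⟨1, T.one_mem, 1, (rest T).one_mem, (one_mul _).symm⟩
      mul_mem' := by
        rintro _ _ ⟨a, ha, b, hb, rfl⟩ ⟨c, hc, d, hd, rfl⟩
        refine ⟨a * c, T.mul_mem ha hc, b * d, (rest T).mul_mem hb hd, ?_⟩
        rw [mul_assoc, ← mul_assoc b, s.rest_comm hb hc]
        simp [mul_assoc]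
      inv_mem' := by
        rintro _ ⟨a, ha, b, hb, rfl⟩
        refine ⟨a⁻¹, T.inv_mem ha, b⁻¹, (rest T).inv_mem hb, ?_⟩
        rw [← mul_inv_rev, s.rest_comm hb ha] }
  have hT : T ≤ P := fun a ha => ⟨a, ha, 1, (rest T).one_mem, (mul_one _).symm⟩
  have hR : rest T ≤ P := fun b hb => ⟨1, T.one_mem, b, hb, (one_mul _).symm⟩
  have hall : ∀ g, ExtPrim.cj T g ≤ P := fun g => by
    by_cases h : ExtPrim.cj T g = T
    · rw [h]; exact hT
    · exact (le_sSup ⟨⟨g, rfl⟩, h⟩ : ExtPrim.cj T g ≤ rest T).trans hR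
  exact (s.iSup_cj.ge.trans (iSup_le hall)) hm

theorem isSimpleGroup (s : Sys V M T) : IsSimpleGroup T := by
  have : Nontrivial T := T.nontrivial_iff_ne_bot.mpr s.minM.ne
  refine ⟨fun K hK => ?_⟩
  have hn : ∀ m ∈ M, ∀ k ∈ K.map T.subtype, m * k * m⁻¹ ∈ K.map T.subtype := by
    intro m hm _ hk
    obtain ⟨a, ha, b, hb, rfl⟩ := s.decomp hm
    obtain ⟨k, hk', rfl⟩ := hk
    refine ⟨⟨a, ha⟩ * k * ⟨a, ha⟩⁻¹, hK.conj_mem k hk' _, ?_⟩
    have hc := s.rest_comm hb k.2
    change a * (k : H) * a⁻¹ = a * b * k * (a * b)⁻¹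
    rw [mul_assoc a b, hc]
    simp [mul_assoc]
  rcases s.minM.min (K.map T.subtype) (Subgroup.map_subtype_le K) hn with h | h
  · exact Or.inl ((Subgroup.map_eq_bot_iff_of_injective _ T.subtype_injective).mp h)
  · refine Or.inr (Subgroup.map_injective T.subtype_injective ?_)
    rw [h, ← MonoidHom.range_eq_map]; exact (Subgroup.range_subtype T).symm

end Sys

end Cfsg.Agent.ExtPrim
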