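import Cfsg.Agent.ExtPrim.Struct
import Cfsg.Agent.S0205

/-!
# The minimal normal subgroup is simple

With two commuting simple factors, the natural module would be a tensor product; a vector of
"rank two" shows the first factor to be a subgroup of a two-dimensional linear group in
characteristic two, in which stabilizers of lines act trivially on them, against Burnside transfer.
-/

set_option autoImplicit false

namespace Cfsg.Agent.ExtPrim

open MulAction

variable {H : Type*} [Group H] [Finite H] {V : Type*} [AddCommGroup V] [DistribMulAction H V]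
  [Finite V] {M T : Subgroup H}

namespace Sys

theorem inv_M (s : Sys V M T) {W : AddSubgroup V} (hT : Inv T W) (hR : Inv (rest T) W) :
    Inv M W := by
  intro m hm w hw
  obtain ⟨a, ha, b, hb, rfl⟩ := s.decomp hm
  rw [mul_smul]
  exact hT a ha _ (hR b hb w hw)

theorem M_irred (s : Sys V M T) {W : AddSubgroup V} (hW : Inv M W) (h0 : W ≠ ⊥) : W = ⊤ := by
  haveI := s.normal
  refine (s.ctx.irred W ?_).resolve_left h0
  intro g _ w hw
  by_cases hw0 : w = 0
  · rw [hw0, smul_zero]; exact W.zero_mem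
  obtain ⟨k, hk, x, hx, rfl⟩ := s.ctx.exists_mul M (fun h => s.minM.ne (le_bot_iff.mp
    (h ▸ s.minM.le))) hw0 g
  rw [mul_smul, hx]
  exact hW k hk w hw

theorem no_fix (s : Sys V M T) {w : V} (hw : ∀ a ∈ T, a • w = w) : w = 0 := by
  by_contra h0
  have h := s.M_irred (W := fixV T) (inv_fixV fun y hy x hx => by
    simpa using s.minM.norm y⁻¹ (M.inv_mem hy) x hx)
    (fun hb => h0 (AddSubgroup.mem_bot.mp (hb ▸ (hw : w ∈ fixV T))))
  refine s.minM.ne ((Subgroup.eq_bot_iff_forall _).mpr fun a ha => s.ctx.faithful a fun u => ?_)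
  exact (h ▸ AddSubgroup.mem_top u : u ∈ fixV T) a ha

theorem exists_inv (s : Sys V M T) : ∃ t ∈ T, t ≠ 1 ∧ t * t = 1 := by
  have hodd : ¬ Odd (Nat.card T) := fun ho => by
    haveI := s.isSimpleGroup
    have h := (IsSimpleGroup.comm_iff_isSolvable (G := T)).mpr (Cfsg.Agent.S0205.result ho)
    exact s.not_comm fun a ha b hb => congrArg Subtype.val (h ⟨a, ha⟩ ⟨b, hb⟩)
  obtain ⟨t, ht⟩ := exists_prime_orderOf_dvd_card' (G := T) 2
    (even_iff_two_dvd.mp (Nat.not_odd_iff_even.mp hodd))
  refine ⟨t, t.2, fun h => ?_, ?_⟩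
  · rw [show t = 1 from Subtype.ext h, orderOf_one] at ht
    omega
  · have h := pow_orderOf_eq_one t
    rw [ht, pow_two] at h
    exact congrArg Subtype.val h

/-- If the projection to `T` of the stabilizer of `v` is proper, it fixes `v`. -/
theorem proj_fix (s : Sys V M T) {v : V} (hv : v ≠ 0) {X : AddSubgroup V}
    (hX : Inv (rest T) X) (hXt : X ≠ ⊤) (hvX : v ∈ X) {a b : H} (ha : a ∈ T) (hb : b ∈ rest T)
    (hab : (a * b) • v = v) : a • v = v := by
  haveI := s.normal
  let Q : Subgroup H := (M ⊓ stabilizer H v) ⊔ rest T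
  have hnR : M ⊓ stabilizer H v ≤ Subgroup.normalizer ((rest T : Subgroup H) : Set H) := by
    rw [Subgroup.le_normalizer_iff]
    exact fun x hx y hy => s.rest_norm x hx.1 y hy
  by_cases hQ : M ≤ Q
  · -- the orbit of `v` under `rest T` spans an `M`-invariant subgroup of `X`
    exfalso
    let Y : AddSubgroup V := AddSubgroup.closure {w | ∃ r ∈ rest T, w = r • v}
    have hYR : Inv (rest T) Y := by
      intro r hr w hw
      induction hw using AddSubgroup.closure_induction with
      | mem x hx =>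
        obtain ⟨r', hr', rfl⟩ := hx
        exact AddSubgroup.subset_closure ⟨r * r', (rest T).mul_mem hr hr', (mul_smul r r' v).symm⟩
      | zero => rw [smul_zero]; exact Y.zero_mem
      | add x y _ _ hx hy => rw [smul_add]; exact Y.add_mem hx hy
      | neg x _ hx => rw [smul_neg]; exact Y.neg_mem hx
    have hYT : Inv T Y := by
      intro c hc w hw
      induction hw using AddSubgroup.closure_induction with
      | mem x hx =>
        obtain ⟨r', hr', rfl⟩ := hx
        have hcQ : c ∈ Q := hQ (s.minM.le hc)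
        rw [← SetLike.mem_coe, Subgroup.coe_mul_of_left_le_normalizer_right _ _ hnR] at hcQ
        obtain ⟨m, hm, r, hr, rfl⟩ := hcQ
        obtain ⟨hmM, hmv⟩ := hm
        have hmr : m * r ∈ T := hc
        have e : (m * r) • v = (m * r * m⁻¹) • v := by
          conv_rhs => rw [mul_smul, show m⁻¹ • v = v from inv_smul_eq_iff.mpr (Eq.symm hmv)]
        have hr2 : m * r * m⁻¹ ∈ rest T := s.rest_norm m hmM r hr
        rw [← mul_smul, ← s.rest_comm hr' hmr, mul_smul, e, ← mul_smul]
        exact AddSubgroup.subset_closure ⟨_, (rest T).mul_mem hr' hr2, rfl⟩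
      | zero => rw [smul_zero]; exact Y.zero_mem
      | add x y _ _ hx hy => rw [smul_add]; exact Y.add_mem hx hy
      | neg x _ hx => rw [smul_neg]; exact Y.neg_mem hx
    have hvY : v ∈ Y := AddSubgroup.subset_closure ⟨1, (rest T).one_mem, (one_smul H v).symm⟩
    have hY : Y = ⊤ := s.M_irred (s.inv_M hYT hYR) fun h => hv (AddSubgroup.mem_bot.mp (h ▸ hvY))
    refine hXt (eq_top_iff.mpr (hY ▸ (AddSubgroup.closure_le _).mpr ?_))
    rintro w ⟨r, hr, rfl⟩
    exact hX r hr v hvX
  · let R : Subgroup H :=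
      { carrier := {m | m ∈ M ∧ ∀ h : H, h • v = v → h * m * h⁻¹ ∈ Q}
        one_mem' := ⟨M.one_mem, fun h _ => by simp⟩
        mul_mem' := by
          rintro x y ⟨hx1, hx2⟩ ⟨hy1, hy2⟩
          refine ⟨M.mul_mem hx1 hy1, fun h hh => ?_⟩
          have := Q.mul_mem (hx2 h hh) (hy2 h hh)
          simpa [mul_assoc] using this
        inv_mem' := by
          rintro x ⟨hx1, hx2⟩
          refine ⟨M.inv_mem hx1, fun h hh => ?_⟩
          have := Q.inv_mem (hx2 h hh)
          simpa [mul_assoc] using this }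
    have hnorm : stabilizer H v ≤ Subgroup.normalizer ((R : Subgroup H) : Set H) := by
      rw [Subgroup.le_normalizer_iff]
      rintro g hg x ⟨hx1, hx2⟩
      refine ⟨s.normal.conj_mem x hx1 g, fun h hh => ?_⟩
      have := hx2 (h * g) (by rw [mul_smul, (hg : g • v = v), hh])
      simpa [mul_assoc] using this
    have hRv : R ≤ stabilizer H v := by
      rcases s.ctx.hmax v hv (stabilizer H v ⊔ R) le_sup_left with e | e
      · exact e ▸ le_sup_right
      refine absurd (fun m hm => ?_) hQ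
      have hm' : m ∈ stabilizer H v ⊔ R := e ▸ Subgroup.mem_top m
      rw [← SetLike.mem_coe, Subgroup.coe_mul_of_left_le_normalizer_right _ _ hnorm] at hm'
      obtain ⟨g, hg, r, hr, rfl⟩ := hm'
      have hgM : g ∈ M := by
        have := M.mul_mem hm (M.inv_mem hr.1)
        simpa [mul_assoc] using this
      refine Q.mul_mem (Subgroup.mem_sup_left ⟨hgM, hg⟩) ?_
      have := hr.2 1 (one_smul H v)
      simpa using this
    have haM : a ∈ M := s.minM.le ha
    refine hRv ⟨haM, fun h hh => ?_⟩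
    by_cases hc : ExtPrim.cj T h = T
    · have h1 : h * a * h⁻¹ ∈ T := hc ▸ (by simpa [mem_cj, mul_assoc] using ha)
      have h2 : h * b * h⁻¹ ∈ rest T := by
        have : rest T ≤ (rest T).comap (MulAut.conj h).toMonoidHom :=
          sSup_le fun S ⟨⟨g, hg⟩, hne⟩ z hz => by
            subst hg
            refine (le_sSup ⟨⟨h * g, rfl⟩, fun e => hne ?_⟩ : ExtPrim.cj T (h * g) ≤ rest T)
              (by simpa [mem_cj, mul_assoc] using mem_cj.mp hz)
            have e1 := congrArg (fun S => ExtPrim.cj S h⁻¹) e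
            have e2 := congrArg (fun S => ExtPrim.cj S h⁻¹) hc
            simp only [cj_cj, inv_mul_cancel_left] at e1
            simp only [cj_cj, inv_mul_cancel, cj_one] at e2
            rw [e1, ← e2]
        exact this hb
      have h3 : h * a * h⁻¹ = h * (a * b) * h⁻¹ * (h * b * h⁻¹)⁻¹ := by simp [mul_assoc]
      rw [h3]
      refine Q.mul_mem (Subgroup.mem_sup_left ⟨s.normal.conj_mem _ (M.mul_mem haM
        (s.rest_le hb)) h, ?_⟩) (Q.inv_mem (Subgroup.mem_sup_right h2))
      change (h * (a * b) * h⁻¹) • v = v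
      rw [mul_smul, show h⁻¹ • v = v from inv_smul_eq_iff.mpr hh.symm, mul_smul, hab, hh]
    · refine Subgroup.mem_sup_right ((le_sSup ⟨⟨h, rfl⟩, hc⟩ : ExtPrim.cj T h ≤ rest T) ?_)
      simpa [mem_cj, mul_assoc] using ha

theorem op_comm (s : Sys V M T) {a : H} (ha : a ∈ T) :
    ∀ h ∈ rest T, ∀ v : V, op a (h • v) = h • op a v := fun h hh v => by
  rw [op_apply, op_apply, ← mul_smul, ← mul_smul, s.rest_comm hh ha]

/-- In the case of two conjugates, `V` is the sum of two copies of a `rest T`-module. -/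
theorem exists_pair (s : Sys V M T) [Nontrivial V] (hT : ∃ g, ExtPrim.cj T g ≠ T) :
    ∃ U U' : AddSubgroup V, IsMinInv (rest T) U ∧ IsMinInv (rest T) U' ∧
      Nat.card U' = Nat.card U ∧ U ⊓ U' = ⊥ ∧ U ⊔ U' = ⊤ := by
  obtain ⟨g, hg⟩ := hT
  have hle : ExtPrim.cj T g ≤ rest T := le_sSup ⟨⟨g, rfl⟩, hg⟩
  have s1 := s.cj' g
  obtain ⟨t1, ht1, ht1', ht1s⟩ := s1.exists_inv
  obtain ⟨t2, ht2, ht2', ht2s⟩ := s.exists_inv
  let N1 : AddMonoid.End V := 1 + op t1
  let N2 : AddMonoid.End V := 1 + op t2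
  have hN1 : ∀ w, N1 w = w + t1 • w := fun _ => rfl
  have hN2 : ∀ w, N2 w = w + t2 • w := fun _ => rfl
  have hN2c : ∀ h ∈ rest T, ∀ w, N2 (h • w) = h • N2 w := fun h hh w => by
    rw [hN2, hN2, smul_add]; exact congrArg _ (s.op_comm ht2 h hh w)
  have hne : ∃ w, N1 (N2 w) ≠ 0 := by
    by_contra! hall
    obtain ⟨w, hw⟩ : ∃ w, N2 w ≠ 0 := by
      by_contra! h
      refine ht2' (s.ctx.faithful t2 fun w => ?_)
      have h1 := h w
      rw [hN2] at h1
      calc t2 • w = (w + w) + t2 • w := by rw [s.two w, zero_add]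
        _ = w + (w + t2 • w) := by abel
        _ = w := by rw [h1, add_zero]
    -- the elements of the conjugate fixing the image of `N2`
    let K : Subgroup H :=
      { carrier := {m | m ∈ ExtPrim.cj T g ∧ ∀ u, m • N2 u = N2 u}
        one_mem' := ⟨(ExtPrim.cj T g).one_mem, fun u => one_smul H _⟩
        mul_mem' := by
          rintro x y ⟨hx1, hx2⟩ ⟨hy1, hy2⟩
          exact ⟨(ExtPrim.cj T g).mul_mem hx1 hy1, fun u => by rw [mul_smul, hy2, hx2]⟩
        inv_mem' := by
          rintro x ⟨hx1, hx2⟩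
          exact ⟨(ExtPrim.cj T g).inv_mem hx1, fun u => by rw [inv_smul_eq_iff, hx2]⟩ }
    haveI := s1.isSimpleGroup
    have hKn : (K.subgroupOf (ExtPrim.cj T g)).Normal := by
      refine ⟨fun x hx y => ?_⟩
      rw [Subgroup.mem_subgroupOf] at hx ⊢
      refine ⟨((y * x * y⁻¹ : ExtPrim.cj T g)).2, fun u => ?_⟩
      have hy : ∀ u, (y : H)⁻¹ • N2 u = N2 ((y : H)⁻¹ • u) := fun u =>
        (hN2c _ ((rest T).inv_mem (hle y.2)) u).symm
      change ((y : H) * (x : H) * (y : H)⁻¹) • N2 u = N2 u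
      rw [mul_smul, mul_smul, hy, hx.2, ← hy, smul_inv_smul]
    have hKtop := hKn.eq_bot_or_eq_top.resolve_left fun hb => ht1' (by
      have h1 : (⟨t1, ht1⟩ : ExtPrim.cj T g) ∈ K.subgroupOf (ExtPrim.cj T g) := by
        rw [Subgroup.mem_subgroupOf]
        refine ⟨ht1, fun u => ?_⟩
        have h1 := hall u
        rw [hN1] at h1
        calc t1 • N2 u = (N2 u + N2 u) + t1 • N2 u := by rw [s.two, zero_add]
          _ = N2 u + (N2 u + t1 • N2 u) := by abel
          _ = N2 u := by rw [h1, add_zero]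
      rw [hb, Subgroup.mem_bot] at h1
      exact congrArg Subtype.val h1)
    refine hw (s1.no_fix fun a ha => ?_)
    have h1 : (⟨a, ha⟩ : ExtPrim.cj T g) ∈ K.subgroupOf (ExtPrim.cj T g) :=
      hKtop ▸ Subgroup.mem_top _
    exact (Subgroup.mem_subgroupOf.mp h1).2 w
  -- a minimal invariant subgroup on which both operators are non-trivial
  obtain ⟨U, hU, v0, hv0, hv0'⟩ :
      ∃ U, IsMinInv (rest T) U ∧ ∃ v0 ∈ U, N1 (N2 v0) ≠ 0 := by
    let Z : AddSubgroup V := sSup {U | IsMinInv (rest T) U}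
    have hZ : Z = ⊤ := by
      refine s.M_irred (s.inv_M ?_ ?_) ?_
      · intro a ha
        have h : Z ≤ Z.comap (op a) := sSup_le fun U hU => by
          refine AddSubgroup.map_le_iff_le_comap.mp ?_
          refine le_sSup (isMinInv_map hU (op a) (s.op_comm ha) fun hb => hU.ne ?_)
          refine (AddSubgroup.eq_bot_iff_forall _).mpr fun u hu => ?_
          have h1 : op a u ∈ U.map (op a) := AddSubgroup.mem_map_of_mem _ hu
          rw [hb, AddSubgroup.mem_bot, op_apply, smul_eq_zero_iff_eq] at h1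
          exact h1
        exact fun w hw => h hw
      · intro a ha
        have h : Z ≤ Z.comap (op a) := sSup_le fun U hU w hw =>
          (le_sSup hU : U ≤ Z) (hU.inv a ha w hw)
        exact fun w hw => h hw
      · obtain ⟨U, -, hU⟩ := exists_isMinInv (X := rest T) (Z := (⊤ : AddSubgroup V))
          (fun _ _ _ _ => trivial) top_ne_bot
        exact fun hb => hU.ne (le_bot_iff.mp (hb ▸ (le_sSup hU : U ≤ Z)))
    by_contra! hcon
    obtain ⟨w, hw⟩ := hne
    have h : Z ≤ AddMonoidHom.ker (N1 * N2) := sSup_le fun U hU u hu => hcon U hU u hu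
    exact hw (h (hZ ▸ AddSubgroup.mem_top w))
  have ht1R : t1 ∈ rest T := hle ht1
  have hc12 : N1 (N2 v0) = N2 (N1 v0) := by
    rw [hN1 (N2 v0), hN1 v0, map_add, hN2c t1 ht1R]
  let v : V := N1 v0 + N2 v0
  let X : AddSubgroup V := U ⊔ U.map N2
  have hXi : Inv (rest T) X := inv_sup hU.inv (inv_map hU.inv N2 hN2c)
  have hvX : v ∈ X := AddSubgroup.add_mem_sup
    (by rw [hN1]; exact U.add_mem hv0 (hU.inv t1 ht1R v0 hv0)) (AddSubgroup.mem_map_of_mem _ hv0)
  -- squares of the two operators vanish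
  have sq : ∀ t : H, t * t = 1 → ∀ w : V, (w + t • w) + t • (w + t • w) = 0 := by
    intro t ht w
    rw [smul_add, ← mul_smul, ht, one_smul, add_comm (t • w) w]
    exact s.two _
  have e1 : N1 v = N1 (N2 v0) := by
    change N1 (N1 v0 + N2 v0) = _
    rw [map_add, show N1 (N1 v0) = 0 by rw [hN1 (N1 v0), hN1 v0]; exact sq t1 ht1s v0, zero_add]
  have e2 : N2 v = N1 (N2 v0) := by
    change N2 (N1 v0 + N2 v0) = _
    rw [map_add, show N2 (N2 v0) = 0 by rw [hN2 (N2 v0), hN2 v0]; exact sq t2 ht2s v0, add_zero,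
      hc12]
  have htt : t1 • v = t2 • v := by
    have h := e1.trans e2.symm
    rw [hN1, hN2] at h
    exact add_left_cancel h
  have hv : v ≠ 0 := fun h => hv0' (by rw [← e1, h, map_zero])
  have hmov : t2 • v ≠ v := fun h => hv0' (by rw [← e2, hN2, h, s.two])
  have hfix : (t2 * t1) • v = v := by rw [mul_smul, htt, ← mul_smul, ht2s, one_smul]
  have hX : X = ⊤ := by
    by_contra hXt
    exact hmov (s.proj_fix hv hXi hXt hvX ht2 ht1R hfix)
  have hU' : IsMinInv (rest T) (U.map N2) := by
    refine isMinInv_map hU N2 hN2c fun hb => hv0' ?_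
    have h1 : N2 v0 ∈ U.map N2 := AddSubgroup.mem_map_of_mem _ hv0
    rw [hb, AddSubgroup.mem_bot] at h1
    rw [h1, map_zero]
  have hUtop : U ≠ ⊤ := by
    intro htop
    refine s.not_comm fun a ha b hb => ?_
    have h : ∀ w : V, op a (op b w) = op b (op a w) := fun w =>
      restrict_comm hU (op a) (op b) (fun u _ => htop ▸ AddSubgroup.mem_top _)
        (fun u _ => htop ▸ AddSubgroup.mem_top _) (fun h hh u _ => s.op_comm ha h hh u)
        (fun h hh u _ => s.op_comm hb h hh u) w (htop ▸ AddSubgroup.mem_top w)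
    have h1 : (b * a)⁻¹ * (a * b) = 1 := s.ctx.faithful _ fun w => by
      have := h w
      rw [op_apply, op_apply, op_apply, op_apply, ← mul_smul, ← mul_smul] at this
      rw [mul_smul, this, inv_smul_smul]
    exact (inv_mul_eq_one.mp h1).symm
  have hinter : U ⊓ U.map N2 = ⊥ := by
    by_contra hb
    have h1 := hU.min _ inf_le_left (inv_inf hU.inv hU'.inv) hb
    have h2 := hU'.min _ inf_le_right (inv_inf hU.inv hU'.inv) hb
    exact hUtop (by rw [← hX]; change U = U ⊔ U.map N2; rw [h2.symm.trans h1, sup_idem])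
  refine ⟨U, U.map N2, hU, hU', (Nat.card_congr (Equiv.ofBijective
    (fun u : U => (⟨N2 u, AddSubgroup.mem_map_of_mem _ u.2⟩ : U.map N2)) ⟨?_, ?_⟩)).symm,
    hinter, hX⟩
  · intro p q hpq
    have hker : U ⊓ AddMonoidHom.ker N2 = ⊥ := by
      by_contra hb
      have hKi : Inv (rest T) (U ⊓ AddMonoidHom.ker N2) := by
        intro h hh w hw
        refine ⟨hU.inv h hh w hw.1, ?_⟩
        change N2 (h • w) = 0
        rw [hN2c h hh, show N2 w = 0 from hw.2, smul_zero]
      have h1 := hU.min _ inf_le_left hKi hb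
      refine hU'.ne ((AddSubgroup.eq_bot_iff_forall _).mpr ?_)
      rintro _ ⟨u, hu, rfl⟩
      exact (inf_eq_left.mp h1) hu
    have h1 : ((p : V) - q) ∈ U ⊓ AddMonoidHom.ker N2 := by
      refine ⟨U.sub_mem p.2 q.2, ?_⟩
      change N2 ((p : V) - q) = 0
      rw [map_sub, sub_eq_zero]
      exact congrArg Subtype.val hpq
    rw [hker, AddSubgroup.mem_bot, sub_eq_zero] at h1
    exact Subtype.ext h1
  · rintro ⟨_, u, hu, rfl⟩
    exact ⟨⟨u, hu⟩, rfl⟩

end Sys

end Cfsg.Agent.ExtPrim
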